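import Mathlib.Algebra.Module.FinitePresentation
import Mathlib.Algebra.Module.Torsion.Basic
import Mathlib.LinearAlgebra.Quotient.Basic
import Mathlib.RingTheory.Ideal.Quotient.Operations
import Mathlib.LinearAlgebra.LinearIndependent.Defs
import Mathlib.LinearAlgebra.Matrix.Adjugate
import Mathlib.LinearAlgebra.Matrix.ToLin
import Mathlib.LinearAlgebra.Basis.VectorSpace

/-!
# The quotient `V(x) = M(x)/B(x)` of the fibre of a module at a maximal ideal

`B(x)` is the span of the classes of those `m` with `φ m ∈ x` for all linear forms `φ` on `M`.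
The elements `s_1, …, s_r` are independent in `V(x)` iff some determinant `det (φ_i (s_j))` is not in `x`.
-/

set_option autoImplicit false
universe u

namespace K66.FiberForms

variable {R : Type u} [CommRing R] {M : Type u} [AddCommGroup M] [Module R M]

/-- `B(x)` -/
abbrev Bq (M : Type u) [AddCommGroup M] [Module R M] (x : Ideal R) :
    Submodule (R ⧸ x) (M ⧸ (x • ⊤ : Submodule R M)) :=
  Submodule.span (R ⧸ x) ((x • ⊤ : Submodule R M).mkQ '' {m : M | ∀ φ : M →ₗ[R] R, φ m ∈ x})

/-- the class of `m` in `V(x)` -/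
abbrev img (x : Ideal R) (m : M) : (M ⧸ (x • ⊤ : Submodule R M)) ⧸ Bq M x :=
  (Bq M x).mkQ ((x • ⊤ : Submodule R M).mkQ m)

theorem img_add (x : Ideal R) (m m' : M) : img x (m + m') = img x m + img x m' := by
  simp only [img, map_add]

theorem img_zero (x : Ideal R) : img x (0 : M) = 0 := by
  simp only [img, map_zero]

theorem mkQ_smul (x : Ideal R) (a : R) (m : M) :
    (x • ⊤ : Submodule R M).mkQ (a • m) = (Ideal.Quotient.mk x a) • (x • ⊤ : Submodule R M).mkQ m := by
  rfl

theorem img_smul (x : Ideal R) (a : R) (m : M) :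
    img x (a • m) = (Ideal.Quotient.mk x a) • img x m := by
  rw [img, mkQ_smul, LinearMap.map_smul]

theorem img_sum {ι : Type*} (x : Ideal R) (t : Finset ι) (m : ι → M) :
    img x (∑ i ∈ t, m i) = ∑ i ∈ t, img x (m i) := by
  simp only [img, map_sum]

theorem img_surjective (x : Ideal R) : Function.Surjective (img (M := M) x) :=
  (Submodule.mkQ_surjective _).comp (Submodule.mkQ_surjective _)

/-- A linear form `φ` induces a map `V(x) → κ(x)`. -/
theorem exists_functional (x : Ideal R) (φ : M →ₗ[R] R) :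
    ∃ Φ : ((M ⧸ (x • ⊤ : Submodule R M)) ⧸ Bq M x) →ₗ[R ⧸ x] (R ⧸ x),
      ∀ m, Φ (img x m) = Ideal.Quotient.mk x (φ m) := by
  have hle : (x • ⊤ : Submodule R M) ≤ LinearMap.ker ((Submodule.mkQ x).comp φ) := by
    rw [Submodule.smul_le]
    intro r hr m _
    rw [LinearMap.mem_ker, LinearMap.comp_apply, map_smul, smul_eq_mul, Submodule.mkQ_apply,
      Submodule.Quotient.mk_eq_zero]
    exact Ideal.mul_mem_right _ _ hr
  let Φ₀ : (M ⧸ (x • ⊤ : Submodule R M)) →ₗ[R] (R ⧸ x) :=
    (x • ⊤ : Submodule R M).liftQ ((Submodule.mkQ x).comp φ) hle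
  let Φ₁ : (M ⧸ (x • ⊤ : Submodule R M)) →ₗ[R ⧸ x] (R ⧸ x) :=
    { toFun := Φ₀
      map_add' := map_add Φ₀
      map_smul' := by
        intro a y
        obtain ⟨a, rfl⟩ := Ideal.Quotient.mk_surjective a
        obtain ⟨y, rfl⟩ := Submodule.mkQ_surjective _ y
        rw [← mkQ_smul]
        change Ideal.Quotient.mk x (φ (a • y)) = Ideal.Quotient.mk x a * Ideal.Quotient.mk x (φ y)
        rw [map_smul, smul_eq_mul, map_mul] }
  have hΦ₁ : ∀ m, Φ₁ ((x • ⊤ : Submodule R M).mkQ m) = Ideal.Quotient.mk x (φ m) := fun m => rfl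
  refine ⟨(Bq M x).liftQ Φ₁ ?_, fun m => ?_⟩
  · rw [Submodule.span_le]
    rintro _ ⟨m, hm, rfl⟩
    rw [SetLike.mem_coe, LinearMap.mem_ker, hΦ₁]
    exact Ideal.Quotient.eq_zero_iff_mem.mpr (hm φ)
  · exact hΦ₁ m

theorem img_eq_zero_iff (x : Ideal R) (m : M) : img x m = 0 ↔ ∀ φ : M →ₗ[R] R, φ m ∈ x := by
  constructor
  · intro h φ
    obtain ⟨Φ, hΦ⟩ := exists_functional x φ
    rw [← Ideal.Quotient.eq_zero_iff_mem, ← hΦ, h, map_zero]
  · intro h
    rw [img, Submodule.mkQ_apply, Submodule.Quotient.mk_eq_zero]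
    exact Submodule.subset_span ⟨m, h, rfl⟩

theorem linearIndependent_iff {ι : Type*} [Fintype ι] (x : Ideal R) (s : ι → M) :
    LinearIndependent (R ⧸ x) (fun i => img x (s i)) ↔
      ∀ c : ι → R, (∀ φ : M →ₗ[R] R, φ (∑ i, c i • s i) ∈ x) → ∀ i, c i ∈ x := by
  rw [Fintype.linearIndependent_iff]
  constructor
  · intro h c hc i
    rw [← Ideal.Quotient.eq_zero_iff_mem]
    refine h (fun i => Ideal.Quotient.mk x (c i)) ?_ i
    rw [← (img_eq_zero_iff x _).mpr hc, img_sum]
    exact Finset.sum_congr rfl fun i _ => (img_smul x _ _).symm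
  · intro h c hc i
    choose c' hc' using fun i => Ideal.Quotient.mk_surjective (c i)
    rw [← hc', Ideal.Quotient.eq_zero_iff_mem]
    refine h c' ?_ i
    rw [← img_eq_zero_iff, img_sum, ← hc]
    exact Finset.sum_congr rfl fun i _ => by rw [img_smul, hc']

theorem linearIndependent_iff_exists_det (x : Ideal R) [hx : x.IsMaximal] {r : ℕ} (s : Fin r → M) :
    LinearIndependent (R ⧸ x) (fun i => img x (s i)) ↔
      ∃ φ : Fin r → (M →ₗ[R] R), (Matrix.of fun i j => φ i (s j)).det ∉ x := by
  rw [linearIndependent_iff]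
  constructor
  · intro h
    let _ := Ideal.Quotient.field x
    -- the image of `Hom(M, R) → κ^r` is everything
    let T : (M →ₗ[R] R) → (Fin r → R ⧸ x) := fun φ i => Ideal.Quotient.mk x (φ (s i))
    let U : Submodule (R ⧸ x) (Fin r → R ⧸ x) :=
      { carrier := Set.range T
        add_mem' := by
          rintro _ _ ⟨φ, rfl⟩ ⟨ψ, rfl⟩
          exact ⟨φ + ψ, by ext i; simp [T]⟩
        zero_mem' := ⟨0, by ext i; simp [T]⟩
        smul_mem' := by
          rintro a _ ⟨φ, rfl⟩
          obtain ⟨a, rfl⟩ := Ideal.Quotient.mk_surjective a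
          exact ⟨a • φ, by ext i; simp [T]⟩ }
    have hU : U = ⊤ := by
      by_contra hne
      obtain ⟨ℓ, hℓ, hUℓ⟩ := Submodule.exists_le_ker_of_lt_top U (lt_top_iff_ne_top.mpr hne)
      apply hℓ
      choose c hc using fun i => Ideal.Quotient.mk_surjective (ℓ (Pi.single i 1))
      have hℓv : ∀ v : Fin r → R ⧸ x, ℓ v = ∑ i, v i * Ideal.Quotient.mk x (c i) := by
        intro v
        conv_lhs => rw [← Finset.univ_sum_single v, map_sum]
        refine Finset.sum_congr rfl fun i _ => ?_
        rw [hc, ← smul_eq_mul, ← map_smul, ← Pi.single_smul, smul_eq_mul, mul_one]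
      have hcx : ∀ i, c i ∈ x := by
        apply h c
        intro φ
        rw [← Ideal.Quotient.eq_zero_iff_mem]
        have h1 : ℓ (T φ) = 0 := hUℓ ⟨φ, rfl⟩
        rw [hℓv] at h1
        rw [map_sum, map_sum, ← h1]
        refine Finset.sum_congr rfl fun i _ => ?_
        rw [map_smul, smul_eq_mul, map_mul, mul_comm]
      apply LinearMap.ext
      intro v
      rw [hℓv, LinearMap.zero_apply]
      refine Finset.sum_eq_zero fun i _ => ?_
      rw [Ideal.Quotient.eq_zero_iff_mem.mpr (hcx i), mul_zero]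
    have hT : ∀ i : Fin r, ∃ φ : M →ₗ[R] R, T φ = Pi.single i 1 := by
      intro i
      have : (Pi.single i 1 : Fin r → R ⧸ x) ∈ U := hU ▸ Submodule.mem_top
      exact this
    choose φ hφ using hT
    refine ⟨φ, ?_⟩
    rw [← Ideal.Quotient.eq_zero_iff_mem, RingHom.map_det]
    have : (Ideal.Quotient.mk x).mapMatrix (Matrix.of fun i j => φ i (s j)) = 1 := by
      ext i j
      have h1 := congrFun (hφ i) j
      simp only [T] at h1
      simp only [RingHom.mapMatrix_apply, Matrix.map_apply, Matrix.of_apply, h1, Matrix.one_apply,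
        Pi.single_apply, eq_comm]
    rw [this, Matrix.det_one]
    exact one_ne_zero
  · rintro ⟨φ, hφ⟩ c hc i
    set A : Matrix (Fin r) (Fin r) R := Matrix.of fun i j => φ i (s j) with hA
    have hAc : ∀ i, (A.mulVec c) i ∈ x := by
      intro i
      have := hc (φ i)
      rw [map_sum] at this
      have h2 : (A.mulVec c) i = ∑ j, φ i (c j • s j) := by
        simp only [Matrix.mulVec, dotProduct, hA, Matrix.of_apply, map_smul, smul_eq_mul]
        exact Finset.sum_congr rfl fun j _ => mul_comm _ _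
      rw [h2]
      exact this
    have hdet : A.det * c i ∈ x := by
      have h3 : (A.adjugate.mulVec (A.mulVec c)) i = A.det * c i := by
        rw [Matrix.mulVec_mulVec, Matrix.adjugate_mul, Matrix.smul_mulVec, Matrix.one_mulVec,
          Pi.smul_apply, smul_eq_mul]
      rw [← h3, Matrix.mulVec, dotProduct]
      exact Submodule.sum_mem _ fun j _ => Ideal.mul_mem_left _ _ (hAc j)
    exact (hx.isPrime.mem_or_mem hdet).resolve_left hφ

end K66.FiberForms
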